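import Cfsg.Agent.H284.EP.TForm

/-!
# S5719 (involution fixity of almost simple primitive groups): interface (driver helper209, mathematics helper634)

`IF A Γ` : `A = H ∩ T`, `Γ ≤ Aut T` the group induced by the point stabiliser `H`; `n = |T : A|`.
* `fx A σ` : number of points `yA` fixed by `σ`, i.e. `y⁻¹ σ(y) ∈ A`.
* `exists_IF` : from a counterexample of S5719.
-/

set_option autoImplicit false
set_option linter.unusedSectionVars false

namespace Cfsg.Agent.H209.Fxy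

open MulAction Subgroup Cfsg.Agent.H284

/-- the set of cosets `yA` fixed by `σ` (for `σ` leaving `A` invariant) -/
def fixSet {T : Type*} [Group T] (A : Subgroup T) (σ : MulAut T) : Set (T ⧸ A) :=
  {c | ∃ y : T, (y : T ⧸ A) = c ∧ y⁻¹ * σ y ∈ A}

/-- the fixity of `σ` on `T/A` -/
noncomputable def fx {T : Type*} [Group T] (A : Subgroup T) (σ : MulAut T) : ℕ := (fixSet A σ).ncard

/-- A counterexample to S5719, seen in the simple group `T`. -/
structure IF {T : Type*} [Group T] (A : Subgroup T) (Γ : Subgroup (MulAut T)) : Prop where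
  /-- `A` is maximal among the proper `Γ`-invariant subgroups -/
  max : ∀ B : Subgroup T, A ≤ B → (∀ σ ∈ Γ, ∀ b ∈ B, σ b ∈ B) → B = A ∨ B = ⊤
  ne_top : A ≠ ⊤
  ne_bot : A ≠ ⊥
  /-- the inner automorphisms in `Γ` are those of `A` -/
  conj : ∀ a : T, MulAut.conj a ∈ Γ ↔ a ∈ A
  inv : ∀ σ ∈ Γ, ∀ a : T, σ a ∈ A ↔ a ∈ A
  big : 729 < A.index
  small : ∀ σ ∈ Γ, orderOf σ = 2 → fx A σ ^ 6 < A.index
  ex : ∃ σ ∈ Γ, orderOf σ = 2 ∧ 3 ≤ fx A σ

section

variable {G Ω : Type*} [Group G] [Finite G] [MulAction G Ω] [FaithfulSMul G Ω] [Fintype Ω]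
  {T : Subgroup G} [hTn : T.Normal] {Q : Type*} [Group Q] (e : T ≃* Q)

/-- the point of `Ω` belonging to a coset -/
theorem exists_equiv (htr : ∀ x y : Ω, ∃ t ∈ T, t • x = y) (α : Ω) :
    ∃ φ : (Q ⧸ TA e (stabilizer G α)) ≃ Ω, ∀ q : Q, φ (q : Q ⧸ TA e (stabilizer G α)) = toG e q • α := by
  refine ⟨Equiv.ofBijective (Quotient.lift (fun q : Q => toG e q • α) ?_) ⟨?_, ?_⟩, fun q => rfl⟩
  · intro a b hab
    have h1 : a⁻¹ * b ∈ TA e (stabilizer G α) := QuotientGroup.leftRel_apply.1 hab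
    have h2 : toG e (a⁻¹ * b) ∈ stabilizer G α := h1
    rw [map_mul, map_inv, mem_stabilizer_iff, mul_smul, inv_smul_eq_iff] at h2
    exact h2.symm
  · intro a b hab
    induction a using QuotientGroup.induction_on with
    | H a =>
      induction b using QuotientGroup.induction_on with
      | H b =>
        have hab' : toG e a • α = toG e b • α := hab
        rw [QuotientGroup.eq, mem_TA, map_mul, map_inv, mem_stabilizer_iff, mul_smul, inv_smul_eq_iff]
        exact hab'.symm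
  · intro x
    obtain ⟨t, ht, hx⟩ := htr α x
    obtain ⟨q, rfl⟩ := exists_toG e ht
    exact ⟨(q : Q ⧸ TA e (stabilizer G α)), hx⟩

theorem fx_eq (htr : ∀ x y : Ω, ∃ t ∈ T, t • x = y) (α : Ω) {g : G} (hg : g ∈ stabilizer G α) :
    fx (TA e (stabilizer G α)) (toAut e g) = Nat.card (fixedBy Ω g) := by
  obtain ⟨φ, hφ⟩ := exists_equiv e htr α
  have key : ∀ q : Q, q⁻¹ * toAut e g q ∈ TA e (stabilizer G α) ↔ toG e q • α ∈ fixedBy Ω g := by
    intro q
    rw [stab_iff e hg, ← stab_smul]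
    rfl
  have h1 : φ '' fixSet (TA e (stabilizer G α)) (toAut e g) = fixedBy Ω g := by
    ext x
    constructor
    · rintro ⟨_, ⟨q, rfl, hq⟩, rfl⟩
      rw [hφ]
      exact (key q).1 hq
    · intro hx
      obtain ⟨t, ht, hx'⟩ := htr α x
      obtain ⟨q, rfl⟩ := exists_toG e ht
      exact ⟨(q : Q ⧸ TA e (stabilizer G α)), ⟨q, rfl, (key q).2 (by rw [hx']; exact hx)⟩, by rw [hφ, hx']⟩
  rw [fx, ← Set.ncard_image_of_injective _ φ.injective, h1]
  rfl

theorem index_eq (htr : ∀ x y : Ω, ∃ t ∈ T, t • x = y) (α : Ω) :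
    (TA e (stabilizer G α)).index = Fintype.card Ω := by
  obtain ⟨φ, -⟩ := exists_equiv e htr α
  rw [Subgroup.index, Nat.card_congr φ, Nat.card_eq_fintype_card]

theorem orderOf_toAut (hC : Subgroup.centralizer (T : Set G) = ⊥) (g : G) :
    orderOf (toAut e g) = orderOf g := orderOf_injective _ (toAut_inj e hC) g

end

theorem pow6 {a n : ℕ} (h : (a : ℝ) < (n : ℝ) ^ ((1 : ℝ) / 6)) : a ^ 6 < n := by
  have h0 : (0 : ℝ) ≤ (n : ℝ) := Nat.cast_nonneg n
  have h1 : (a : ℝ) ^ 6 < ((n : ℝ) ^ ((1 : ℝ) / 6)) ^ 6 := pow_lt_pow_left₀ h (Nat.cast_nonneg a) (by norm_num)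
  have h2 : ((n : ℝ) ^ ((1 : ℝ) / 6)) ^ 6 = n := by
    rw [← Real.rpow_natCast, ← Real.rpow_mul h0]
    norm_num
  rw [h2] at h1
  exact_mod_cast h1

/-- **A counterexample to S5719 gives `IF`.** (`hsol` : Schreier) -/
theorem exists_IF {G Ω : Type*} [Group G] [Finite G] [MulAction G Ω] [FaithfulSMul G Ω] [Fintype Ω]
    (T : Subgroup G) [T.Normal] (hT : IsSimpleGroup T) (hTn : ¬ IsMulCommutative T)
    (hC : Subgroup.centralizer (T : Set G) = ⊥) (hprim : MulAction.IsPreprimitive G Ω)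
    (hsol : Group.IsSolvable (G ⧸ T))
    (hneg : ¬ ((∃ t : G, orderOf t = 2 ∧ (Fintype.card Ω : ℝ) ^ ((1 : ℝ) / 6) ≤ (Nat.card (MulAction.fixedBy Ω t) : ℝ)) ∨
    (∀ t : G, orderOf t = 2 → Nat.card (MulAction.fixedBy Ω t) ≤ 2)))
    {Q : Type*} [Group Q] (e : T ≃* Q) : ∃ (A : Subgroup Q) (Γ : Subgroup (MulAut Q)), IF A Γ := by
  push Not at hneg
  obtain ⟨hsm, t0, ht0, hf0⟩ := hneg
  have hsm' : ∀ t : G, orderOf t = 2 → Nat.card (fixedBy Ω t) ^ 6 < Fintype.card Ω := fun t ht => pow6 (hsm t ht)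
  have hbig : 729 < Fintype.card Ω := by
    have h1 := hsm' t0 ht0
    have h2 : 3 ^ 6 ≤ Nat.card (fixedBy Ω t0) ^ 6 := Nat.pow_le_pow_left hf0 6
    omega
  have hTc : ¬ ∀ a ∈ T, ∀ b ∈ T, a * b = b * a := by
    intro hc
    apply hTn
    exact ⟨⟨fun a b => Subtype.ext (hc a a.2 b b.2)⟩⟩
  have hTb : T ≠ ⊥ := by
    rintro rfl
    apply hTc
    intro a ha b hb
    rw [mem_bot] at ha hb
    rw [ha, hb]
  have hnt : Nontrivial Ω := by
    rw [← Fintype.one_lt_card_iff_nontrivial]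
    omega
  have hTtr : MulAction.IsPretransitive T Ω := by
    apply IsQuasiPreprimitive.isPretransitive_of_normal (G := G)
    intro h1
    apply hTb
    rw [Subgroup.eq_bot_iff_forall]
    intro t ht
    apply FaithfulSMul.eq_of_smul_eq_smul (α := Ω)
    intro x
    have h2 : x ∈ fixedPoints T Ω := by rw [h1]; trivial
    rw [one_smul]
    exact h2 ⟨t, ht⟩
  have htr : ∀ x y : Ω, ∃ t ∈ T, t • x = y := by
    intro x y
    obtain ⟨t, ht⟩ := hTtr.exists_smul_eq x y
    exact ⟨t, t.2, ht⟩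
  obtain ⟨⟨α, hα⟩⟩ : Nonempty (fixedBy Ω t0) := by
    by_contra hcon
    rw [not_nonempty_iff] at hcon
    rw [Nat.card_of_isEmpty] at hf0
    omega
  set H := stabilizer G α with hH
  have hco : IsCoatom H := IsPreprimitive.isCoatom_stabilizer_of_isPreprimitive G α
  have hmax : ∀ B : Subgroup Q, TA e H ≤ B → (∀ σ ∈ H.map (toAut e), ∀ b ∈ B, σ b ∈ B) → B = TA e H ∨ B = ⊤ := by
    intro B hAB hB
    have hBn : ∀ g ∈ H, ∀ k ∈ B.map (toG e), g * k * g⁻¹ ∈ B.map (toG e) := map_toG_norm e hB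
    let S : Subgroup G :=
      { carrier := {g | ∃ b ∈ B.map (toG e), ∃ h ∈ H, g = b * h}
        one_mem' := ⟨1, one_mem _, 1, one_mem _, (mul_one 1).symm⟩
        mul_mem' := by
          rintro _ _ ⟨b, hb, h, hh, rfl⟩ ⟨b', hb', h', hh', rfl⟩
          refine ⟨b * (h * b' * h⁻¹), mul_mem hb (hBn h hh b' hb'), h * h', mul_mem hh hh', ?_⟩
          group
        inv_mem' := by
          rintro _ ⟨b, hb, h, hh, rfl⟩
          refine ⟨h⁻¹ * b⁻¹ * h⁻¹⁻¹, hBn _ (inv_mem hh) _ (inv_mem hb), h⁻¹, inv_mem hh, ?_⟩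
          group }
    have hHS : H ≤ S := fun h hh => ⟨1, one_mem _, h, hh, (one_mul h).symm⟩
    rcases eq_or_lt_of_le hHS with h1 | h1
    · left
      apply le_antisymm _ hAB
      intro b hb
      rw [mem_TA, h1]
      exact ⟨toG e b, ⟨b, hb, rfl⟩, 1, one_mem _, (mul_one _).symm⟩
    · right
      have h2 := hco.2 _ h1
      rw [Subgroup.eq_top_iff']
      intro q
      have h3 : toG e q ∈ S := by rw [h2]; exact mem_top _
      obtain ⟨_, ⟨b, hb, rfl⟩, h, hh, he⟩ := h3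
      have h4 : toG e (b⁻¹ * q) = h := by rw [map_mul, map_inv, he]; group
      have h5 : b⁻¹ * q ∈ B := hAB (by rw [mem_TA, h4]; exact hh)
      have h6 := B.mul_mem hb h5
      rwa [mul_inv_cancel_left] at h6
  refine ⟨TA e H, H.map (toAut e), hmax, ?_, ?_, ?_, ?_, ?_, ?_, ?_⟩
  · -- ne_top
    intro h1
    have h2 := index_eq e htr α
    rw [h1, Subgroup.index_top] at h2
    omega
  · -- ne_bot
    intro h1
    have hHT : H ⊓ T = ⊥ := by
      rw [Subgroup.eq_bot_iff_forall]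
      rintro x ⟨hx, hxT⟩
      obtain ⟨q, rfl⟩ := exists_toG e hxT
      have h2 : q ∈ TA e H := hx
      rw [h1, mem_bot] at h2
      rw [h2, map_one]
    apply hTc
    refine (reg_sub (M := H) (N := T) (fun m _ n hn => Subgroup.Normal.conj_mem inferInstance n hn m)
      (solv_of_inf hsol hHT) ?_ hTb).1
    intro L hL hLn
    have h2 : L = (L.comap (toG e)).map (toG e) := by
      ext x
      constructor
      · intro hx
        obtain ⟨q, rfl⟩ := exists_toG e (hL hx)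
        exact ⟨q, hx, rfl⟩
      · rintro ⟨q, hq, rfl⟩
        exact hq
    rcases hmax (L.comap (toG e)) (by rw [h1]; exact bot_le) (by
      rintro _ ⟨g, hg, rfl⟩ b hb
      rw [Subgroup.mem_comap, toG_toAut]
      exact hLn g hg _ hb) with h3 | h3
    · left
      rw [h2, h3, h1, Subgroup.map_bot]
    · right
      apply le_antisymm hL
      intro t ht
      obtain ⟨q, rfl⟩ := exists_toG e ht
      have h4 : q ∈ L.comap (toG e) := by rw [h3]; exact mem_top _
      exact h4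
  · intro a
    constructor
    · rintro ⟨h, hh, he⟩
      rw [← toAut_toG e] at he
      rw [mem_TA, ← toAut_inj e hC he]
      exact hh
    · intro ha
      exact ⟨toG e a, ha, toAut_toG e a⟩
  · rintro _ ⟨g, hg, rfl⟩ a
    rw [mem_TA, mem_TA, toG_toAut]
    constructor
    · intro h1
      have h2 := H.mul_mem (H.mul_mem (H.inv_mem hg) h1) hg
      have h3 : g⁻¹ * (g * toG e a * g⁻¹) * g = toG e a := by group
      rwa [h3] at h2
    · intro h1
      exact H.mul_mem (H.mul_mem hg h1) (H.inv_mem hg)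
  · rw [index_eq e htr α]
    exact hbig
  · rintro _ ⟨g, hg, rfl⟩ hord
    rw [orderOf_toAut e hC] at hord
    rw [index_eq e htr α, fx_eq e htr α hg]
    exact hsm' g hord
  · refine ⟨toAut e t0, ⟨t0, hα, rfl⟩, ?_, ?_⟩
    · rw [orderOf_toAut e hC, ht0]
    · rw [fx_eq e htr α hα]
      exact hf0

end Cfsg.Agent.H209.Fxy
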