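import Cfsg.Agent.H209.IF.Cells
import Cfsg.Agent.H132.IF.AltRow
import Cfsg.Agent.H800.IFx.Row
import Cfsg.Agent.H771.IFx.Three
import Cfsg.Agent.H358.IF.Four
import Cfsg.Agent.H974.IF.SLCell
import Cfsg.Agent.H232.IF.RowSL
import Cfsg.Agent.H716.IFO.PslOdd
import Cfsg.Agent.H66.IFU.Three
import Cfsg.Agent.H838.IF.PSUfour
import Cfsg.Agent.H411.IFU.Main
import Cfsg.Agent.H406.IF.PSUEven
import Cfsg.Agent.H574.IFO.PsuOdd
import Cfsg.Agent.H804.IF.P4Main
import Cfsg.Agent.H500.IF.SpFin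
import Cfsg.Agent.H17.IFSp.Fin
import Cfsg.Agent.H407.IF.Fin
import Cfsg.Agent.H447.IFO.PSpOdd
import Cfsg.Agent.H59.IF.Odd
import Cfsg.Agent.H254.IF.Eleven
import Cfsg.Agent.H94.IF.Plus
import Cfsg.Agent.H94.IF.MidF
import Cfsg.Agent.H829.IF.Final
import Cfsg.Agent.H429.IFO.Omega

/-!
# S5719: the classical cells (collected by helper209)
-/

set_option autoImplicit false

namespace Cfsg.Agent.H209.Fxy

open Cfsg

theorem cAlt : CellsAlt where
  alt := Cfsg.Agent.H132.IF.kill_alt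

theorem cPSL : CellsPSL where
  two := fun F _ _ h => Cfsg.Agent.H800.IFx.kill_psl_two F h
  three := Cfsg.Agent.H771.IFx.three
  four := Cfsg.Agent.H358.IF.psl_four
  oddmid := fun F _ _ n ho h5 _ => Cfsg.Agent.H974.IF.killE_psl_odd F n ho h5
  oddlarge := fun F _ _ n ho h8 => Cfsg.Agent.H974.IF.killE_psl_odd F n ho (by omega)
  even := fun F _ _ n he hn => Cfsg.Agent.H232.IFR.killE_psl_even F n he hn
  oddA := fun F _ _ n hn hs => Cfsg.Agent.H716.IFO.psl_odd F n hn hs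

theorem psuBig (F : Type) [Field F] [Fintype F] (n q : ℕ) (hF : Fintype.card F = q ^ 2) (hn : 5 ≤ n)
    (hs : IsSimpleGroup (PSU n F q)) : KillE (PSU n F q) := by
  rcases Nat.even_or_odd q with he | ho
  · exact Cfsg.Agent.H406.IF.psu_even F n q hF he hn hs
  · exact Cfsg.Agent.H411.IFU.psu_odd F n q hF ho hn hs

theorem cPSU : CellsPSU where
  three := fun F _ _ q hF h2 hs => Cfsg.Agent.H66.IFU.three F q hF h2 hs
  four := Cfsg.Agent.H838.IF.psu_four
  mid := fun F _ _ n q hF h5 _ hs => psuBig F n q hF h5 hs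
  large := fun F _ _ n q hF h8 hs => psuBig F n q hF (by omega) hs
  oddA := fun F _ _ n q hF hn hs => Cfsg.Agent.H574.IFO.psu_oddA F n q hF hn hs

theorem cPSp : CellsPSp where
  two := Cfsg.Agent.H804.P4.psp4
  oddmid := Cfsg.Agent.H500.IFSp.oddmid
  oddlarge := Cfsg.Agent.H17.IFSp.oddlarge
  even := Cfsg.Agent.H407.IF.killE_psp_even
  oddA := Cfsg.Agent.H447.IFO.psp_oddA

theorem cO : CellsO where
  odd_mid := fun F _ _ m ho hm hm6 hs => Cfsg.Agent.H59.IF.odd_mid F m ho hm hm6 hs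
  odd_large := Cfsg.Agent.H254.IF.odd_large
  odd_O := fun F _ _ m ho hm hs => Cfsg.Agent.H429.IFO.odd_O F m ho hm hs
  plus_mid := fun F _ _ m ho h4 h7 hs => Cfsg.Agent.H94.IF.plus_mid F m ho h4 h7 hs
  plus_large := Cfsg.Agent.H254.IF.plus_large
  plus_even := Cfsg.Agent.H829.IFE.plus_even
  plus_O := fun F _ _ m hm hs => Cfsg.Agent.H429.IFO.plus_O F m hm hs
  minus_mid := fun F _ _ m a b ho h4 h7 hz hs => Cfsg.Agent.H94.IF.minus_mid F m a b ho h4 h7 hz hs
  minus_large := Cfsg.Agent.H254.IF.minus_large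
  minus_even := Cfsg.Agent.H829.IFE.minus_even
  minus_O := fun F _ _ m a b hm hz hs => Cfsg.Agent.H429.IFO.minus_O F m a b hm hz hs

end Cfsg.Agent.H209.Fxy
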