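import Cfsg.Agent.H209.IF.Cells
import Cfsg.Agent.H625.IF.G2
import Cfsg.Agent.H625.IF.Td4
import Cfsg.Agent.H351.IF.F4Main
import Cfsg.Agent.H255.IF.F4
import Cfsg.Agent.H190.IF.ESix
import Cfsg.Agent.H255.IF.ESix
import Cfsg.Agent.H176.IF.ERow7
import Cfsg.Agent.H255.IF.ESeven
import Cfsg.Agent.H351.IFE.RowE8
import Cfsg.Agent.H255.IF.EEight
import Cfsg.Agent.H891.IF.TE6Main
import Cfsg.Agent.H441.IF.TE6F
import Cfsg.Agent.H371.IFx.SzRow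
import Cfsg.Agent.H371.IFx.TwRow
import Cfsg.Agent.H715.IF.Ree
import Cfsg.Agent.H983.IFO.G2
import Cfsg.Agent.H460.IFO.E8F4
import Cfsg.Agent.H321.IF.E6O
import Cfsg.Agent.H554.IFE7.Box
import Cfsg.Agent.H692.IFO.TE6Fin
import Cfsg.Agent.H462.TDO.Main

/-!
# S5719: the exceptional cells (collected by helper209)
-/

set_option autoImplicit false

namespace Cfsg.Agent.H209.Fxy

open Cfsg

theorem cExc : CellsExc where
  g2 := fun F _ _ h3 hs => Cfsg.Agent.H625.IFx.g2 F h3 hs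
  f4_odd := fun F _ _ ho hs => Cfsg.Agent.H351.IF.f4_odd F ho hs
  f4_even := fun F _ _ he hs => Cfsg.Agent.H255.IFF.f4_even F he hs
  e6_odd := Cfsg.Agent.H190.IF.e6_odd
  e6_even := Cfsg.Agent.H255.IFESix.e6_even
  e7_odd := Cfsg.Agent.H176.IFS.e7_odd
  e7_even := Cfsg.Agent.H255.IFESeven.e7_even
  e8_odd := fun F _ _ ho hs => Cfsg.Agent.H351.IFE.e8_odd F ho hs
  e8_even := Cfsg.Agent.H255.IFEEight.e8_even
  te6_odd := fun K _ _ q hq hK ho hs => Cfsg.Agent.H891.IF.te6_odd K q hq hK ho hs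
  te6_even := Cfsg.Agent.H441.IF.TE6.te6_even
  td4 := fun K _ _ q hq hK hs => Cfsg.Agent.H625.IFx.td4 K q hq hK hs
  sz := Cfsg.Agent.H371.IFx.rowSz
  ree := Cfsg.Agent.H715.IF.Ree.row_ree
  tf4 := Cfsg.Agent.H371.IFx.rowTF4
  g2_O := fun F _ _ h3 hs => Cfsg.Agent.H983.IFO.g2_O F h3 hs
  f4_O := fun F _ _ _ => Cfsg.Agent.H460.IFO.f4_O F
  e6_O := Cfsg.Agent.H321.IFE6.e6_O
  e7_O := fun _ _ _ _ => Cfsg.Agent.H554.IFE7.Box.e7_O
  e8_O := fun F _ _ _ => Cfsg.Agent.H460.IFO.e8_O F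
  te6_O := Cfsg.Agent.H692.IFO.TE6Fin.te6_O
  td4_O := fun K _ _ q hq hK hs => Cfsg.Agent.H462.TDO.td4_O K q hq hK hs

end Cfsg.Agent.H209.Fxy
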