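import Cfsg.Agent.H209.IF.Defs

/-!
# S5719: rows (driver helper209)
-/

set_option autoImplicit false

namespace Cfsg.Agent.H209.Fxy

/-- A row: no counterexample in the groups of the family `P`. -/
def Row (P : ∀ (T : Type) [Group T], Prop) : Prop :=
  ∀ (T : Type) [Group T] [Finite T] [IsSimpleGroup T], ¬ IsMulCommutative T → P T →
    ∀ (A : Subgroup T) (Γ : Subgroup (MulAut T)), IF A Γ → False

end Cfsg.Agent.H209.Fxy
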