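import Cfsg.Agent.H209.IF.Main
import Cfsg.Agent.H209.IF.Kill

/-!
# S5719: the cells (exact final forms of the rows, one field = one owner) and `rows_of_cells` (driver helper209)

`Kill T` : no counterexample in `T`; `KillE T` : `A` of even order; `KillO T` : `A` of odd order.
-/

set_option autoImplicit false
set_option linter.unusedSectionVars false

namespace Cfsg.Agent.H209.Fxy

open MulAction Subgroup Cfsg Cfsg.Lie Matrix

/-- alternating groups (helper132, helper111) -/
structure CellsAlt : Prop where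
  alt : ∀ m : ℕ, 5 ≤ m → Kill (alternatingGroup (Fin m))

/-- linear groups -/
structure CellsPSL : Prop where
  /-- helper800 -/
  two : ∀ (F : Type) [Field F] [Fintype F], 4 ≤ Fintype.card F → Kill (ProjectiveSpecialLinearGroup (Fin 2) F)
  /-- helper771 -/
  three : ∀ (F : Type) [Field F] [Fintype F], KillE (ProjectiveSpecialLinearGroup (Fin 3) F)
  /-- helper358 -/
  four : ∀ (F : Type) [Field F] [Fintype F], KillE (ProjectiveSpecialLinearGroup (Fin 4) F)
  /-- helper974, helper500 -/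
  oddmid : ∀ (F : Type) [Field F] [Fintype F] (n : ℕ), Odd (Fintype.card F) → 5 ≤ n → n ≤ 7 →
    KillE (ProjectiveSpecialLinearGroup (Fin n) F)
  /-- helper778, helper353 -/
  oddlarge : ∀ (F : Type) [Field F] [Fintype F] (n : ℕ), Odd (Fintype.card F) → 8 ≤ n →
    KillE (ProjectiveSpecialLinearGroup (Fin n) F)
  /-- helper232 -/
  even : ∀ (F : Type) [Field F] [Fintype F] (n : ℕ), Even (Fintype.card F) → 5 ≤ n →
    KillE (ProjectiveSpecialLinearGroup (Fin n) F)
  /-- helper138 (ODD) -/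
  oddA : ∀ (F : Type) [Field F] [Fintype F] (n : ℕ), 3 ≤ n →
    IsSimpleGroup (ProjectiveSpecialLinearGroup (Fin n) F) → KillO (ProjectiveSpecialLinearGroup (Fin n) F)

/-- unitary groups -/
structure CellsPSU : Prop where
  /-- helper771 -/
  three : ∀ (F : Type) [Field F] [Fintype F] (q : ℕ), Fintype.card F = q ^ 2 → q ≠ 2 →
    IsSimpleGroup (PSU 3 F q) → KillE (PSU 3 F q)
  /-- helper838 -/
  four : ∀ (F : Type) [Field F] [Fintype F] (q : ℕ), Fintype.card F = q ^ 2 →
    IsSimpleGroup (PSU 4 F q) → KillE (PSU 4 F q)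
  /-- helper974, helper500 -/
  mid : ∀ (F : Type) [Field F] [Fintype F] (n q : ℕ), Fintype.card F = q ^ 2 → 5 ≤ n → n ≤ 7 →
    IsSimpleGroup (PSU n F q) → KillE (PSU n F q)
  /-- helper27 -/
  large : ∀ (F : Type) [Field F] [Fintype F] (n q : ℕ), Fintype.card F = q ^ 2 → 8 ≤ n →
    IsSimpleGroup (PSU n F q) → KillE (PSU n F q)
  /-- helper138 (ODD) -/
  oddA : ∀ (F : Type) [Field F] [Fintype F] (n q : ℕ), Fintype.card F = q ^ 2 → 3 ≤ n →
    IsSimpleGroup (PSU n F q) → KillO (PSU n F q)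

/-- symplectic groups, `PSp m F = PSp_{2m}(F)` -/
structure CellsPSp : Prop where
  /-- helper580 -/
  two : ∀ (F : Type) [Field F] [Fintype F], 3 ≤ Fintype.card F → IsSimpleGroup (PSp 2 F) → KillE (PSp 2 F)
  /-- helper974, helper500 -/
  oddmid : ∀ (F : Type) [Field F] [Fintype F] (m : ℕ), Odd (Fintype.card F) → 3 ≤ m → m ≤ 4 →
    IsSimpleGroup (PSp m F) → KillE (PSp m F)
  /-- helper340 -/
  oddlarge : ∀ (F : Type) [Field F] [Fintype F] (m : ℕ), Odd (Fintype.card F) → 5 ≤ m →
    IsSimpleGroup (PSp m F) → KillE (PSp m F)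
  /-- helper407 -/
  even : ∀ (F : Type) [Field F] [Fintype F] (m : ℕ), Even (Fintype.card F) → 3 ≤ m →
    IsSimpleGroup (PSp m F) → KillE (PSp m F)
  /-- helper138 (ODD) -/
  oddA : ∀ (F : Type) [Field F] [Fintype F] (m : ℕ), 2 ≤ m → IsSimpleGroup (PSp m F) → KillO (PSp m F)

/-- orthogonal groups -/
structure CellsO : Prop where
  /-- helper900: dimensions 7, 9, 11, 13 -/
  odd_mid : ∀ (F : Type) [Field F] [Fintype F] (m : ℕ), Odd (Fintype.card F) → 3 ≤ m → m ≤ 6 →
    IsSimpleGroup (POmega F (quadFormOdd m F)) → KillE (POmega F (quadFormOdd m F))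
  /-- helper254: dimension at least 15 -/
  odd_large : ∀ (F : Type) [Field F] [Fintype F] (m : ℕ), Odd (Fintype.card F) → 7 ≤ m →
    IsSimpleGroup (POmega F (quadFormOdd m F)) → KillE (POmega F (quadFormOdd m F))
  /-- helper138 (ODD) -/
  odd_O : ∀ (F : Type) [Field F] [Fintype F] (m : ℕ), Odd (Fintype.card F) → 3 ≤ m →
    IsSimpleGroup (POmega F (quadFormOdd m F)) → KillO (POmega F (quadFormOdd m F))
  /-- helper900: dimensions 8, 10, 12, 14, `q` odd -/
  plus_mid : ∀ (F : Type) [Field F] [Fintype F] (m : ℕ), Odd (Fintype.card F) → 4 ≤ m → m ≤ 7 →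
    IsSimpleGroup (POmega F (quadFormPlus m F)) → KillE (POmega F (quadFormPlus m F))
  /-- helper254: dimension at least 16, `q` odd -/
  plus_large : ∀ (F : Type) [Field F] [Fintype F] (m : ℕ), Odd (Fintype.card F) → 8 ≤ m →
    IsSimpleGroup (POmega F (quadFormPlus m F)) → KillE (POmega F (quadFormPlus m F))
  /-- helper829: `q` even -/
  plus_even : ∀ (F : Type) [Field F] [Fintype F] (m : ℕ), Even (Fintype.card F) → 4 ≤ m →
    IsSimpleGroup (POmega F (quadFormPlus m F)) → KillE (POmega F (quadFormPlus m F))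
  /-- helper138 (ODD) -/
  plus_O : ∀ (F : Type) [Field F] [Fintype F] (m : ℕ), 4 ≤ m →
    IsSimpleGroup (POmega F (quadFormPlus m F)) → KillO (POmega F (quadFormPlus m F))
  /-- helper900: dimensions 8, 10, 12, 14, `q` odd -/
  minus_mid : ∀ (F : Type) [Field F] [Fintype F] (m : ℕ) (a b : F), Odd (Fintype.card F) → 4 ≤ m → m ≤ 7 →
    (∀ z₁ z₂ : F, z₁ ^ 2 + a * z₁ * z₂ + b * z₂ ^ 2 = 0 → z₁ = 0 ∧ z₂ = 0) →
    IsSimpleGroup (POmega F (quadFormMinus (m - 1) F a b)) → KillE (POmega F (quadFormMinus (m - 1) F a b))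
  /-- helper254: dimension at least 16, `q` odd -/
  minus_large : ∀ (F : Type) [Field F] [Fintype F] (m : ℕ) (a b : F), Odd (Fintype.card F) → 8 ≤ m →
    (∀ z₁ z₂ : F, z₁ ^ 2 + a * z₁ * z₂ + b * z₂ ^ 2 = 0 → z₁ = 0 ∧ z₂ = 0) →
    IsSimpleGroup (POmega F (quadFormMinus (m - 1) F a b)) → KillE (POmega F (quadFormMinus (m - 1) F a b))
  /-- helper829: `q` even -/
  minus_even : ∀ (F : Type) [Field F] [Fintype F] (m : ℕ) (a b : F), Even (Fintype.card F) → 4 ≤ m →
    (∀ z₁ z₂ : F, z₁ ^ 2 + a * z₁ * z₂ + b * z₂ ^ 2 = 0 → z₁ = 0 ∧ z₂ = 0) →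
    IsSimpleGroup (POmega F (quadFormMinus (m - 1) F a b)) → KillE (POmega F (quadFormMinus (m - 1) F a b))
  /-- helper138 (ODD) -/
  minus_O : ∀ (F : Type) [Field F] [Fintype F] (m : ℕ) (a b : F), 4 ≤ m →
    (∀ z₁ z₂ : F, z₁ ^ 2 + a * z₁ * z₂ + b * z₂ ^ 2 = 0 → z₁ = 0 ∧ z₂ = 0) →
    IsSimpleGroup (POmega F (quadFormMinus (m - 1) F a b)) → KillO (POmega F (quadFormMinus (m - 1) F a b))

/-- exceptional groups -/
structure CellsExc : Prop where
  /-- helper625 -/
  g2 : ∀ (F : Type) [Field F] [Fintype F], 3 ≤ Fintype.card F → IsSimpleGroup (chevG2.group F) →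
    KillE (chevG2.group F)
  /-- helper625 -/
  f4_odd : ∀ (F : Type) [Field F] [Fintype F], Odd (Fintype.card F) → IsSimpleGroup (chevF4.group F) →
    KillE (chevF4.group F)
  /-- helper255 -/
  f4_even : ∀ (F : Type) [Field F] [Fintype F], Even (Fintype.card F) → IsSimpleGroup (chevF4.group F) →
    KillE (chevF4.group F)
  /-- helper190 -/
  e6_odd : ∀ (F : Type) [Field F] [Fintype F], Odd (Fintype.card F) → IsSimpleGroup (chevE6.group F) →
    KillE (chevE6.group F)
  /-- helper255 -/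
  e6_even : ∀ (F : Type) [Field F] [Fintype F], Even (Fintype.card F) → IsSimpleGroup (chevE6.group F) →
    KillE (chevE6.group F)
  /-- helper176 -/
  e7_odd : ∀ (F : Type) [Field F] [Fintype F], Odd (Fintype.card F) → IsSimpleGroup (chevE7.group F) →
    KillE (chevE7.group F)
  /-- helper255 -/
  e7_even : ∀ (F : Type) [Field F] [Fintype F], Even (Fintype.card F) → IsSimpleGroup (chevE7.group F) →
    KillE (chevE7.group F)
  /-- helper176 -/
  e8_odd : ∀ (F : Type) [Field F] [Fintype F], Odd (Fintype.card F) → IsSimpleGroup (chevE8.group F) →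
    KillE (chevE8.group F)
  /-- helper255 -/
  e8_even : ∀ (F : Type) [Field F] [Fintype F], Even (Fintype.card F) → IsSimpleGroup (chevE8.group F) →
    KillE (chevE8.group F)
  /-- helper190 -/
  te6_odd : ∀ (K : Type) [Field K] [Fintype K] (q : ℕ), IsPrimePow q → Fintype.card K = q ^ 2 → Odd q →
    IsSimpleGroup (twistedE6 K q) → KillE (twistedE6 K q)
  /-- helper255 -/
  te6_even : ∀ (K : Type) [Field K] [Fintype K] (q : ℕ), IsPrimePow q → Fintype.card K = q ^ 2 → Even q →
    IsSimpleGroup (twistedE6 K q) → KillE (twistedE6 K q)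
  /-- helper625 -/
  td4 : ∀ (K : Type) [Field K] [Fintype K] (q : ℕ), IsPrimePow q → Fintype.card K = q ^ 3 →
    IsSimpleGroup (twistedD4 K q) → KillE (twistedD4 K q)
  /-- helper371 -/
  sz : Row fun T => IsoSuzuki T
  /-- helper371 -/
  ree : Row fun T => IsoRee T
  /-- helper371 -/
  tf4 : Row fun T => Iso2F4 T
  /-- helper138 (ODD) -/
  g2_O : ∀ (F : Type) [Field F] [Fintype F], 3 ≤ Fintype.card F → IsSimpleGroup (chevG2.group F) →
    KillO (chevG2.group F)
  /-- helper138 (ODD) -/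
  f4_O : ∀ (F : Type) [Field F] [Fintype F], IsSimpleGroup (chevF4.group F) → KillO (chevF4.group F)
  /-- helper138 (ODD) -/
  e6_O : ∀ (F : Type) [Field F] [Fintype F], IsSimpleGroup (chevE6.group F) → KillO (chevE6.group F)
  /-- helper138 (ODD) -/
  e7_O : ∀ (F : Type) [Field F] [Fintype F], IsSimpleGroup (chevE7.group F) → KillO (chevE7.group F)
  /-- helper138 (ODD) -/
  e8_O : ∀ (F : Type) [Field F] [Fintype F], IsSimpleGroup (chevE8.group F) → KillO (chevE8.group F)
  /-- helper138 (ODD) -/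
  te6_O : ∀ (K : Type) [Field K] [Fintype K] (q : ℕ), IsPrimePow q → Fintype.card K = q ^ 2 →
    IsSimpleGroup (twistedE6 K q) → KillO (twistedE6 K q)
  /-- helper138 (ODD) -/
  td4_O : ∀ (K : Type) [Field K] [Fintype K] (q : ℕ), IsPrimePow q → Fintype.card K = q ^ 3 →
    IsSimpleGroup (twistedD4 K q) → KillO (twistedD4 K q)

/-- sporadic groups and the Tits group -/
structure CellsSpor : Prop where
  tits : Row fun T => Lie.IsoTits T
  m11 : Row fun T => Spor.IsoM11 T
  m12 : Row fun T => Spor.IsoM12 T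
  m22 : Row fun T => Spor.IsoM22 T
  m23 : Row fun T => Spor.IsoM23 T
  m24 : Row fun T => Spor.IsoM24 T
  j1 : Row fun T => Spor.IsoJ1 T
  j2 : Row fun T => Spor.IsoJ2 T
  j3 : Row fun T => Spor.IsoJ3 T
  j4 : Row fun T => Spor.IsoJ4 T
  co1 : Row fun T => Spor.IsoCo1 T
  co2 : Row fun T => Spor.IsoCo2 T
  co3 : Row fun T => Spor.IsoCo3 T
  mcl : Row fun T => Spor.IsoMcL T
  hs : Row fun T => Spor.IsoHS T
  suz : Row fun T => Spor.IsoSuz T
  he : Row fun T => Spor.IsoHe T
  ru : Row fun T => Spor.IsoRu T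
  on : Row fun T => Spor.IsoON T
  ly : Row fun T => Spor.IsoLy T
  fi22 : Row fun T => Spor.IsoFi22 T
  fi23 : Row fun T => Spor.IsoFi23 T
  fi24 : Row fun T => Spor.IsoFi24' T
  hn : Row fun T => Spor.IsoHN T
  th : Row fun T => Spor.IsoTh T
  b : Row fun T => Spor.IsoB T
  m : Row fun T => Spor.IsoM T

section rowsOf

theorem even_or_odd_card (F : Type) [Fintype F] : Even (Fintype.card F) ∨ Odd (Fintype.card F) :=
  Nat.even_or_odd _

theorem CellsPSL.row (C : CellsPSL) : Row fun T => IsPSL T := by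
  refine row_psl_of fun F _ _ n hn h4 hs => ?_
  have : Finite (ProjectiveSpecialLinearGroup (Fin n) F) := Quotient.finite _
  rcases Nat.lt_or_ge n 3 with h3 | h3
  · obtain rfl : n = 2 := by omega
    exact C.two F (h4 rfl)
  refine Kill.of ?_ (C.oddA F n h3 hs)
  rcases Nat.lt_or_ge n 5 with h5 | h5
  · interval_cases n
    · exact C.three F
    · exact C.four F
  rcases even_or_odd_card F with he | ho
  · exact C.even F n he h5
  rcases Nat.lt_or_ge n 8 with h8 | h8
  · exact C.oddmid F n ho h5 (by omega)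
  · exact C.oddlarge F n ho h8

theorem CellsPSU.row (C : CellsPSU) : Row fun T => IsPSU T := by
  refine row_psu_of fun F _ _ n q hq hn h2 hs => ?_
  have : Finite (PSU n F q) := Quotient.finite _
  refine Kill.of ?_ (C.oddA F n q hq hn hs)
  rcases Nat.lt_or_ge n 5 with h5 | h5
  · interval_cases n
    · exact C.three F q hq (fun h => h2 ⟨rfl, h⟩) hs
    · exact C.four F q hq hs
  rcases Nat.lt_or_ge n 8 with h8 | h8
  · exact C.mid F n q hq h5 (by omega) hs
  · exact C.large F n q hq h8 hs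

theorem CellsPSp.row (C : CellsPSp) : Row fun T => IsPSp T := by
  refine row_psp_of fun F _ _ m hm h4 hs => ?_
  have : Finite (PSp m F) := Quotient.finite _
  refine Kill.of ?_ (C.oddA F m hm hs)
  rcases Nat.lt_or_ge m 3 with h3 | h3
  · obtain rfl : m = 2 := by omega
    exact C.two F (h4 rfl) hs
  rcases even_or_odd_card F with he | ho
  · exact C.even F m he h3 hs
  rcases Nat.lt_or_ge m 5 with h8 | h8
  · exact C.oddmid F m ho h3 (by omega) hs
  · exact C.oddlarge F m ho h8 hs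

theorem CellsO.row_odd (C : CellsO) : Row fun T => IsPOmegaOdd T := by
  refine row_oodd_of fun F _ _ m hm ho hs => ?_
  have : Finite (POmega F (quadFormOdd m F)) := Quotient.finite _
  refine Kill.of ?_ (C.odd_O F m ho hm hs)
  rcases Nat.lt_or_ge m 7 with h8 | h8
  · exact C.odd_mid F m ho hm (by omega) hs
  · exact C.odd_large F m ho h8 hs

theorem CellsO.row_plus (C : CellsO) : Row fun T => IsPOmegaPlus T := by
  refine row_oplus_of fun F _ _ m hm hs => ?_
  have : Finite (POmega F (quadFormPlus m F)) := Quotient.finite _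
  refine Kill.of ?_ (C.plus_O F m hm hs)
  rcases even_or_odd_card F with he | ho
  · exact C.plus_even F m he hm hs
  rcases Nat.lt_or_ge m 8 with h8 | h8
  · exact C.plus_mid F m ho hm (by omega) hs
  · exact C.plus_large F m ho h8 hs

theorem CellsO.row_minus (C : CellsO) : Row fun T => IsPOmegaMinus T := by
  refine row_ominus_of fun F _ _ m a b hm hz hs => ?_
  have : Finite (POmega F (quadFormMinus (m - 1) F a b)) := Quotient.finite _
  refine Kill.of ?_ (C.minus_O F m a b hm hz hs)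
  rcases even_or_odd_card F with he | ho
  · exact C.minus_even F m a b he hm hz hs
  rcases Nat.lt_or_ge m 8 with h8 | h8
  · exact C.minus_mid F m a b ho hm (by omega) hz hs
  · exact C.minus_large F m a b ho h8 hz hs

theorem CellsExc.row_g2 (C : CellsExc) : Row fun T => Lie.IsoChevG2 T := by
  refine Row.of_kill ?_
  rintro T _ _ _ - ⟨F, _, _, h3, ⟨e⟩⟩
  have hs := (MulEquiv.isSimpleGroup_congr e).1 inferInstance
  exact Kill.congr e.symm (Kill.of (C.g2 F h3 hs) (C.g2_O F h3 hs))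

theorem CellsExc.row_f4 (C : CellsExc) : Row fun T => Lie.IsoF4 T := by
  refine Row.of_kill ?_
  rintro T _ _ _ - ⟨F, _, _, ⟨e⟩⟩
  have hs := (MulEquiv.isSimpleGroup_congr e).1 inferInstance
  refine Kill.congr e.symm (Kill.of ?_ (C.f4_O F hs))
  rcases even_or_odd_card F with he | ho
  · exact C.f4_even F he hs
  · exact C.f4_odd F ho hs

theorem CellsExc.row_e6 (C : CellsExc) : Row fun T => Lie.IsoChevE6 T := by
  refine Row.of_kill ?_
  rintro T _ _ _ - ⟨F, _, _, ⟨e⟩⟩
  have hs := (MulEquiv.isSimpleGroup_congr e).1 inferInstance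
  refine Kill.congr e.symm (Kill.of ?_ (C.e6_O F hs))
  rcases even_or_odd_card F with he | ho
  · exact C.e6_even F he hs
  · exact C.e6_odd F ho hs

theorem CellsExc.row_e7 (C : CellsExc) : Row fun T => Lie.IsoE7 T := by
  refine Row.of_kill ?_
  rintro T _ _ _ - ⟨F, _, _, ⟨e⟩⟩
  have hs := (MulEquiv.isSimpleGroup_congr e).1 inferInstance
  refine Kill.congr e.symm (Kill.of ?_ (C.e7_O F hs))
  rcases even_or_odd_card F with he | ho
  · exact C.e7_even F he hs
  · exact C.e7_odd F ho hs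

theorem CellsExc.row_e8 (C : CellsExc) : Row fun T => Lie.IsoE8 T := by
  refine Row.of_kill ?_
  rintro T _ _ _ - ⟨F, _, _, ⟨e⟩⟩
  have hs := (MulEquiv.isSimpleGroup_congr e).1 inferInstance
  refine Kill.congr e.symm (Kill.of ?_ (C.e8_O F hs))
  rcases even_or_odd_card F with he | ho
  · exact C.e8_even F he hs
  · exact C.e8_odd F ho hs

theorem CellsExc.row_te6 (C : CellsExc) : Row fun T => Lie.Iso2E6 T := by
  refine Row.of_kill ?_
  rintro T _ _ _ - ⟨K, _, _, q, hq, hc, ⟨e⟩⟩
  have hs := (MulEquiv.isSimpleGroup_congr e).1 inferInstance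
  refine Kill.congr e.symm (Kill.of ?_ (C.te6_O K q hq hc hs))
  rcases Nat.even_or_odd q with he | ho
  · exact C.te6_even K q hq hc he hs
  · exact C.te6_odd K q hq hc ho hs

theorem CellsExc.row_td4 (C : CellsExc) : Row fun T => Lie.Iso3D4 T := by
  refine Row.of_kill ?_
  rintro T _ _ _ - ⟨K, _, _, q, hq, hc, ⟨e⟩⟩
  have hs := (MulEquiv.isSimpleGroup_congr e).1 inferInstance
  exact Kill.congr e.symm (Kill.of (C.td4 K q hq hc hs) (C.td4_O K q hq hc hs))

/-- **All rows from the cells.** -/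
theorem rows_of_cells (cA : CellsAlt) (cL : CellsPSL) (cU : CellsPSU) (cS : CellsPSp) (cO : CellsO) (cE : CellsExc)
    (cX : CellsSpor) : Rows where
  alt := row_alt_of cA.alt
  psl := cL.row
  psp := cS.row
  psu := cU.row
  oodd := cO.row_odd
  oplus := cO.row_plus
  ominus := cO.row_minus
  g2 := cE.row_g2
  f4 := cE.row_f4
  e6 := cE.row_e6
  e7 := cE.row_e7
  e8 := cE.row_e8
  te6 := cE.row_te6
  td4 := cE.row_td4
  sz := cE.sz
  ree := cE.ree
  tf4 := cE.tf4
  tits := cX.tits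
  m11 := cX.m11
  m12 := cX.m12
  m22 := cX.m22
  m23 := cX.m23
  m24 := cX.m24
  j1 := cX.j1
  j2 := cX.j2
  j3 := cX.j3
  j4 := cX.j4
  co1 := cX.co1
  co2 := cX.co2
  co3 := cX.co3
  mcl := cX.mcl
  hs := cX.hs
  suz := cX.suz
  he := cX.he
  ru := cX.ru
  on := cX.on
  ly := cX.ly
  fi22 := cX.fi22
  fi23 := cX.fi23
  fi24 := cX.fi24
  hn := cX.hn
  th := cX.th
  b := cX.b
  m := cX.m

end rowsOf

end Cfsg.Agent.H209.Fxy
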