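import Cfsg.Agent.H209.IF.Defs
import Cfsg.Agent.H209.IF.Row
import Cfsg.Agent.H419.EP.Final
import Cfsg.Agent.Lib.MinNormal

/-!
# S5719: the final assembly from the rows (driver helper209)
-/

set_option autoImplicit false
set_option linter.unusedSectionVars false

namespace Cfsg.Agent.H209.Fxy

open MulAction Subgroup Cfsg Cfsg.Agent.H284

/-- The rows of S5719. -/
structure Rows : Prop where
  alt : Row fun T => IsAlternating T
  psl : Row fun T => IsPSL T
  psp : Row fun T => IsPSp T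
  psu : Row fun T => IsPSU T
  oodd : Row fun T => IsPOmegaOdd T
  oplus : Row fun T => IsPOmegaPlus T
  ominus : Row fun T => IsPOmegaMinus T
  g2 : Row fun T => Lie.IsoChevG2 T
  f4 : Row fun T => Lie.IsoF4 T
  e6 : Row fun T => Lie.IsoChevE6 T
  e7 : Row fun T => Lie.IsoE7 T
  e8 : Row fun T => Lie.IsoE8 T
  te6 : Row fun T => Lie.Iso2E6 T
  td4 : Row fun T => Lie.Iso3D4 T
  sz : Row fun T => Lie.IsoSuzuki T
  ree : Row fun T => Lie.IsoRee T
  tf4 : Row fun T => Lie.Iso2F4 T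
  tits : Row fun T => Lie.IsoTits T
  m11 : Row fun T => Spor.IsoM11 T
  m12 : Row fun T => Spor.IsoM12 T
  m22 : Row fun T => Spor.IsoM22 T
  m23 : Row fun T => Spor.IsoM23 T
  m24 : Row fun T => Spor.IsoM24 T
  j1 : Row fun T => Spor.IsoJ1 T
  j2 : Row fun T => Spor.IsoJ2 T
  j3 : Row fun T => Spor.IsoJ3 T
  j4 : Row fun T => Spor.IsoJ4 T
  co1 : Row fun T => Spor.IsoCo1 T
  co2 : Row fun T => Spor.IsoCo2 T
  co3 : Row fun T => Spor.IsoCo3 T
  mcl : Row fun T => Spor.IsoMcL T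
  hs : Row fun T => Spor.IsoHS T
  suz : Row fun T => Spor.IsoSuz T
  he : Row fun T => Spor.IsoHe T
  ru : Row fun T => Spor.IsoRu T
  on : Row fun T => Spor.IsoON T
  ly : Row fun T => Spor.IsoLy T
  fi22 : Row fun T => Spor.IsoFi22 T
  fi23 : Row fun T => Spor.IsoFi23 T
  fi24 : Row fun T => Spor.IsoFi24' T
  hn : Row fun T => Spor.IsoHN T
  th : Row fun T => Spor.IsoTh T
  b : Row fun T => Spor.IsoB T
  m : Row fun T => Spor.IsoM T

theorem Rows.all (R : Rows) {T : Type} [Group T] [Finite T] [IsSimpleGroup T] (hna : ¬ IsMulCommutative T)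
    (hK : IsKnownSimple' T) (A : Subgroup T) (Γ : Subgroup (MulAut T)) (h : IF A Γ) : False := by
  rcases hK with h0 | h0 | h0 | h0 | h0 | h0 | h0 | h0 | h0 | h0
  · apply hna
    have hp : IsCyclic T := by
      haveI : Fact (Nat.card T).Prime := ⟨h0⟩
      exact isCyclic_of_prime_card rfl
    exact IsCyclic.isMulCommutative
  · exact R.alt T hna h0 A Γ h
  · exact R.psl T hna h0 A Γ h
  · exact R.psp T hna h0 A Γ h
  · exact R.psu T hna h0 A Γ h
  · exact R.oodd T hna h0 A Γ h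
  · exact R.oplus T hna h0 A Γ h
  · exact R.ominus T hna h0 A Γ h
  · rcases h0 with h0 | h0 | h0 | h0 | h0 | h0 | h0 | h0 | h0 | h0 | h0
    · exact R.g2 T hna h0 A Γ h
    · exact R.f4 T hna h0 A Γ h
    · exact R.e6 T hna h0 A Γ h
    · exact R.e7 T hna h0 A Γ h
    · exact R.e8 T hna h0 A Γ h
    · exact R.te6 T hna h0 A Γ h
    · exact R.td4 T hna h0 A Γ h
    · exact R.sz T hna h0 A Γ h
    · exact R.ree T hna h0 A Γ h
    · exact R.tf4 T hna h0 A Γ h
    · exact R.tits T hna h0 A Γ h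
  · rcases h0 with h0 | h0 | h0 | h0 | h0 | h0 | h0 | h0 | h0 | h0 | h0 | h0 | h0 | h0 | h0 | h0 | h0 | h0 | h0 | h0 | h0 | h0 | h0 | h0 | h0 | h0
    · exact R.m11 T hna h0 A Γ h
    · exact R.m12 T hna h0 A Γ h
    · exact R.m22 T hna h0 A Γ h
    · exact R.m23 T hna h0 A Γ h
    · exact R.m24 T hna h0 A Γ h
    · exact R.j1 T hna h0 A Γ h
    · exact R.j2 T hna h0 A Γ h
    · exact R.j3 T hna h0 A Γ h
    · exact R.j4 T hna h0 A Γ h
    · exact R.co1 T hna h0 A Γ h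
    · exact R.co2 T hna h0 A Γ h
    · exact R.co3 T hna h0 A Γ h
    · exact R.mcl T hna h0 A Γ h
    · exact R.hs T hna h0 A Γ h
    · exact R.suz T hna h0 A Γ h
    · exact R.he T hna h0 A Γ h
    · exact R.ru T hna h0 A Γ h
    · exact R.on T hna h0 A Γ h
    · exact R.ly T hna h0 A Γ h
    · exact R.fi22 T hna h0 A Γ h
    · exact R.fi23 T hna h0 A Γ h
    · exact R.fi24 T hna h0 A Γ h
    · exact R.hn T hna h0 A Γ h
    · exact R.th T hna h0 A Γ h
    · exact R.b T hna h0 A Γ h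
    · exact R.m T hna h0 A Γ h

/-- **S5719 from the rows and the classification.** -/
theorem main_of (R : Rows) (hcl : ∀ (T : Type) [Group T] [Finite T] [IsSimpleGroup T], IsKnownSimple' T)
    {G Ω : Type*} [Group G] [Finite G] [MulAction G Ω] [FaithfulSMul G Ω] [Fintype Ω]
    (T : Subgroup G) [T.Normal] (hT : IsSimpleGroup T) (hTn : ¬ IsMulCommutative T)
    (hC : Subgroup.centralizer (T : Set G) = ⊥) (hprim : MulAction.IsPreprimitive G Ω) :
    (∃ t : G, orderOf t = 2 ∧ (Fintype.card Ω : ℝ) ^ ((1 : ℝ) / 6) ≤ (Nat.card (MulAction.fixedBy Ω t) : ℝ)) ∨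
    (∀ t : G, orderOf t = 2 → Nat.card (MulAction.fixedBy Ω t) ≤ 2) := by
  by_contra hneg
  obtain ⟨Q, i1, ⟨f⟩⟩ := Cfsg.Agent.Lib.MinNormal.exists_type_zero_model T
  have e : T ≃* Q := f.symm
  have hQs : IsSimpleGroup Q := (MulEquiv.isSimpleGroup_congr e).1 hT
  have hQf : Finite Q := Finite.of_equiv _ e.toEquiv
  have hQn : ¬ IsMulCommutative Q := by
    intro hc
    apply hTn
    exact ⟨⟨fun a b => e.injective (by rw [map_mul, map_mul]; exact hc.is_comm.comm _ _)⟩⟩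
  have hK : IsKnownSimple' Q := hcl Q
  have hDS : Cfsg.Agent.H936.DS 3 Q := Cfsg.Agent.H936.ds_known hQn hK
  have hDST : Cfsg.Agent.H936.DS 3 T := Cfsg.Agent.H936.DS.of_equiv e.symm hDS
  have hsol := Cfsg.Agent.H419.EP.solv_of_DS hC hDST
  obtain ⟨A, Γ, h⟩ := exists_IF T hT hTn hC hprim hsol hneg e
  exact R.all hQn hK A Γ h

end Cfsg.Agent.H209.Fxy
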